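/-
Stage 7.
-/
import Cfsg.Agent.Lib.Chev.InvolCert.E7.Ck7_0
import Cfsg.Agent.Lib.Chev.InvolCert.E7.Ck7_1
import Cfsg.Agent.Lib.Chev.InvolCert.E7.Cov6

set_option autoImplicit false
set_option Elab.async false

namespace Cfsg.Agent.Chev.InvolCert.E7

open Cfsg.Agent.Chev Cfsg.Agent.Chev.InvolCert

theorem ok_all7 : ∀ i < 429, ckNode Cfsg.Agent.Chev.E7.pk (cert7.map Prod.fst) tbl7 i = true := by
  intro i hi
  refine ckNode_of_fast sumT_ok ?_
  have hc : i / 64 < 7 := by omega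
  obtain ⟨c, hcd⟩ : ∃ c, c = i / 64 := ⟨_, rfl⟩
  rw [← hcd] at hc
  interval_cases c
  · exact List.all_eq_true.1 ok7_0 i (List.mem_range'_1.2 (by omega))
  · exact List.all_eq_true.1 ok7_1 i (List.mem_range'_1.2 (by omega))
  · exact List.all_eq_true.1 ok7_2 i (List.mem_range'_1.2 (by omega))
  · exact List.all_eq_true.1 ok7_3 i (List.mem_range'_1.2 (by omega))
  · exact List.all_eq_true.1 ok7_4 i (List.mem_range'_1.2 (by omega))
  · exact List.all_eq_true.1 ok7_5 i (List.mem_range'_1.2 (by omega))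
  · exact List.all_eq_true.1 ok7_6 i (List.mem_range'_1.2 (by omega))

theorem use_all7 : ∀ i < 429, ckUse Cfsg.Agent.Chev.E7.pk (inL Cfsg.Agent.Chev.E7.pk 7) tbl7 i = true :=
  fun i hi => List.all_eq_true.1 (show (List.range 429).all (ckUse Cfsg.Agent.Chev.E7.pk (inL Cfsg.Agent.Chev.E7.pk 7) tbl7) = true by
    decide +kernel) i (List.mem_range.2 hi)

theorem leaves_ok7 : cert7.all (fun c => ckLeaf Cfsg.Agent.Chev.E7.pk reps7 c &&
    ckLeafUse Cfsg.Agent.Chev.E7.pk (inL Cfsg.Agent.Chev.E7.pk 7) c) = true := by decide +kernel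

theorem cov7 (F : Type*) [Field F] [CharP F 2] [Finite F] : Cov Cfsg.Agent.Chev.E7.ok F 7 reps7 :=
  cov_stage Cfsg.Agent.Chev.E7.ok ckComm_E7 (k := 6) (n := 429) (starts := starts7) (by decide +kernel) (by decide +kernel)
    (by decide +kernel) (by decide +kernel) (cov6 F) (by decide +kernel) (by decide +kernel)
    ok_all7 use_all7 leaves_ok7

end Cfsg.Agent.Chev.InvolCert.E7
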