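/-
The involutions of the group of type E7 in characteristic two.
-/
import Cfsg.Agent.Lib.Chev.InvolCert.E7.Cov7
import Cfsg.Agent.Lib.Chev.InvolCert.E7.Sep
import Cfsg.Agent.Lib.Chev.InvolCert.Final

set_option autoImplicit false

namespace Cfsg.Agent.Chev.InvolCert.E7

open Cfsg.Lie Cfsg.Agent.Chev Cfsg.Agent.Chev.InvolCert

theorem reps_ok : reps7.all (ckRep Cfsg.Agent.Chev.E7.pk) = true := by decide +kernel

variable {F : Type*} [Field F] [Fintype F] [CharP F 2]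

theorem cover {g : GL chevE7.Idx F} (hg : g ∈ chevE7.group F) (ho : orderOf g = 2) :
    ∃ R ∈ reps7, ∃ x ∈ chevE7.group F, x * g * x⁻¹ = prd Cfsg.Agent.Chev.E7.ok (fun _ => 1) R :=
  exists_class_cov Cfsg.Agent.Chev.E7.ok ckComm_E7 (k := 7) (by decide +kernel) (cov7 F) hg ho

theorem sep : ∀ i j, i < reps7.length → j < reps7.length → i ≠ j → ∀ x ∈ chevE7.group F,
    x * prd Cfsg.Agent.Chev.E7.ok (fun _ => (1 : F)) (reps7.getD i []) * x⁻¹ ≠ prd Cfsg.Agent.Chev.E7.ok (fun _ => 1) (reps7.getD j []) := by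
  intro i j hi hj hij x hx
  have hl : reps7.length = 5 := rfl
  rw [hl] at hi hj
  interval_cases i <;> interval_cases j
  · exact absurd rfl hij
  · exact (ne_of_sep Cfsg.Agent.Chev.E7.ok w0_ok sep0_1 hx).1
  · exact (ne_of_sep Cfsg.Agent.Chev.E7.ok w0_ok sep0_2 hx).1
  · exact (ne_of_sep Cfsg.Agent.Chev.E7.ok w0_ok sep0_3 hx).1
  · exact (ne_of_sep Cfsg.Agent.Chev.E7.ok w0_ok sep0_4 hx).1
  · exact (ne_of_sep Cfsg.Agent.Chev.E7.ok w0_ok sep0_1 hx).2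
  · exact absurd rfl hij
  · exact (ne_of_sep Cfsg.Agent.Chev.E7.ok w0_ok sep1_2 hx).1
  · exact (ne_of_sep Cfsg.Agent.Chev.E7.ok w0_ok sep1_3 hx).1
  · exact (ne_of_sep Cfsg.Agent.Chev.E7.ok w0_ok sep1_4 hx).1
  · exact (ne_of_sep Cfsg.Agent.Chev.E7.ok w0_ok sep0_2 hx).2
  · exact (ne_of_sep Cfsg.Agent.Chev.E7.ok w0_ok sep1_2 hx).2
  · exact absurd rfl hij
  · exact (ne_of_sep Cfsg.Agent.Chev.E7.ok w0_ok sep3_2 hx).2
  · exact (ne_of_sep Cfsg.Agent.Chev.E7.ok w0_ok sep2_4 hx).1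
  · exact (ne_of_sep Cfsg.Agent.Chev.E7.ok w0_ok sep0_3 hx).2
  · exact (ne_of_sep Cfsg.Agent.Chev.E7.ok w0_ok sep1_3 hx).2
  · exact (ne_of_sep Cfsg.Agent.Chev.E7.ok w0_ok sep3_2 hx).1
  · exact absurd rfl hij
  · exact (ne_of_sep Cfsg.Agent.Chev.E7.ok w0_ok sep3_4 hx).1
  · exact (ne_of_sep Cfsg.Agent.Chev.E7.ok w0_ok sep0_4 hx).2
  · exact (ne_of_sep Cfsg.Agent.Chev.E7.ok w0_ok sep1_4 hx).2
  · exact (ne_of_sep Cfsg.Agent.Chev.E7.ok w0_ok sep2_4 hx).2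
  · exact (ne_of_sep Cfsg.Agent.Chev.E7.ok w0_ok sep3_4 hx).2
  · exact absurd rfl hij

end Cfsg.Agent.Chev.InvolCert.E7
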